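import Mathlib
import Cfsg.Prelude.Def_Transfer
import Cfsg.Agent.S4126
import Cfsg.Agent.Fusion.Alperin
import Cfsg.Agent.Fusion.Tate
import Cfsg.Agent.Fusion.Transfer
import Cfsg.Agent.Coprime.Tools
import Cfsg.Agent.Core.Frattini

/-!
Normal `p`-complements for the smallest prime divisor `p` when the subgroups of one fixed order of
a Sylow `p`-subgroup are strongly closed in their normalisers.
-/

set_option autoImplicit false

namespace Cfsg.Agent.HSub

open Subgroup
open scoped commutatorElement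

variable {G : Type*} [Group G]

/-- `E` is strongly closed in its normaliser. -/
def IsH (E : Subgroup G) : Prop :=
  ∀ g : G, E.map (MulAut.conj g).toMonoidHom ⊓ normalizer (E : Set G) ≤ E

/-- `n` has order prime to `p - 1` and to `p`. -/
def Good (p : ℕ) (n : G) : Prop := (orderOf n).Coprime p ∧ (orderOf n).Coprime (p - 1)

theorem good_of_coprime [Finite G] {p : ℕ} (hp : p.Prime)
    (hmin : ∀ q : ℕ, q.Prime → q ∣ Nat.card G → p ≤ q) {n : G} (hn : (orderOf n).Coprime p) :
    Good p n := by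
  refine ⟨hn, Nat.coprime_of_dvd fun q hq h1 h2 => ?_⟩
  have h3 := hmin q hq (h1.trans (orderOf_dvd_natCard n))
  have h4 := Nat.le_of_dvd (by have := hp.two_le; omega) h2
  have := hp.two_le
  omega

variable [Finite G] {p : ℕ} [Fact p.Prime]

theorem comm_mem_of_prime_index {n : G} (hn : Good p n) {H K : Subgroup G} (hKH : K ≤ H)
    (hnorm : H ≤ normalizer (K : Set G)) (hidx : K.relIndex H = p)
    (hnH : n ∈ normalizer (H : Set G)) (hnK : n ∈ normalizer (K : Set G)) {h : G} (hh : h ∈ H) :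
    n * h * n⁻¹ * h⁻¹ ∈ K := by
  by_cases hK : h ∈ K
  · exact mul_mem ((mem_normalizer_iff.1 hnK h).1 hK) (inv_mem hK)
  have hp : p.Prime := Fact.out
  have hhz : zpowers h ≤ normalizer (K : Set G) := zpowers_le.2 (hnorm hh)
  have hgen : ∀ y ∈ H, ∃ i : ℤ, (h ^ i)⁻¹ * y ∈ K := by
    intro y hy
    have htop : K ⊔ zpowers h = H := by
      refine le_antisymm (sup_le hKH (zpowers_le.2 hh)) (relIndex_eq_one.1 ?_)
      have h1 := relIndex_mul_relIndex K (K ⊔ zpowers h) H le_sup_left
        (sup_le hKH (zpowers_le.2 hh))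
      rw [hidx] at h1
      rcases hp.eq_one_or_self_of_dvd _ ⟨_, h1.symm⟩ with h2 | h2
      · exact absurd (relIndex_eq_one.1 h2 (mem_sup_right (mem_zpowers h))) hK
      · rw [h2] at h1
        exact (Nat.mul_eq_left hp.pos.ne').1 h1
    rw [← htop, Coprime.mem_sup_of_le_normalizer hhz] at hy
    obtain ⟨a, ha, b, hb, rfl⟩ := hy
    obtain ⟨i, rfl⟩ := mem_zpowers_iff.1 hb
    refine ⟨i, ?_⟩
    rw [← mul_assoc]
    exact (mem_normalizer_iff''.1 (hhz (zpow_mem (mem_zpowers h) i)) a).1 ha
  obtain ⟨i, hi⟩ := hgen _ ((mem_normalizer_iff.1 hnH h).1 hh)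
  set q : normalizer (K : Set G) →* normalizer (K : Set G) ⧸ K.subgroupOf (normalizer (K : Set G)) :=
    QuotientGroup.mk' _ with hq
  set h' := q ⟨h, hnorm hh⟩ with hh'
  set n' := q ⟨n, hnK⟩ with hn'
  have hmem : ∀ a : normalizer (K : Set G), q a = 1 ↔ (a : G) ∈ K := fun a =>
    QuotientGroup.eq_one_iff a
  have hconj : n' * h' * n'⁻¹ = h' ^ i := by
    have h0 := (hmem (((⟨h, hnorm hh⟩ : normalizer (K : Set G)) ^ i)⁻¹ *
      (⟨n, hnK⟩ * ⟨h, hnorm hh⟩ * ⟨n, hnK⟩⁻¹))).2 (by simpa using hi)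
    simp only [map_mul, map_inv, map_zpow, inv_mul_eq_one, ← hh', ← hn'] at h0
    exact h0.symm
  have hpow : h' ^ p = 1 := by
    rw [hh', ← map_pow, hmem]
    have : (K.subgroupOf H).Normal := (normal_subgroupOf_iff_le_normalizer hKH).2 hnorm
    have h1 := (K.subgroupOf H).pow_index_mem (⟨h, hh⟩ : H)
    rw [show (K.subgroupOf H).index = p from hidx] at h1
    simpa [mem_subgroupOf] using h1
  have hord : orderOf h' = p := orderOf_eq_prime hpow (fun h1 => hK ((hmem _).1 h1))
  have hit : ∀ j : ℕ, n' ^ j * h' * (n' ^ j)⁻¹ = h' ^ (i ^ j) := by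
    intro j
    induction j with
    | zero => simp
    | succ j ih =>
      calc n' ^ (j + 1) * h' * (n' ^ (j + 1))⁻¹ = n' * (n' ^ j * h' * (n' ^ j)⁻¹) * n'⁻¹ := by
            rw [pow_succ']; group
        _ = h' ^ (i ^ (j + 1)) := by
            rw [ih, ← conj_zpow, hconj, ← zpow_mul, ← pow_succ']
  have hno : n' ^ orderOf n = 1 := by
    rw [hn', ← map_pow]
    convert map_one q
    exact Subtype.ext (pow_orderOf_eq_one n)
  have h1 := hit (orderOf n)
  rw [hno, one_mul, inv_one, mul_one] at h1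
  have h2 : ((i : ZMod p)) ^ orderOf n = 1 := by
    have h3 : h' ^ (i ^ orderOf n - 1) = 1 := by rw [zpow_sub, zpow_one, ← h1, mul_inv_cancel]
    rw [← orderOf_dvd_iff_zpow_eq_one, hord] at h3
    have := (ZMod.intCast_zmod_eq_zero_iff_dvd (i ^ orderOf n - 1) p).2 h3
    push_cast at this
    exact sub_eq_zero.1 this
  have hi0 : (i : ZMod p) ≠ 0 := fun h0 => by
    rw [h0, zero_pow (orderOf_pos n).ne'] at h2
    exact zero_ne_one h2
  have h4 : (i : ZMod p) = 1 := by
    have := pow_gcd_eq_one.2 ⟨h2, ZMod.pow_card_sub_one_eq_one hi0⟩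
    rwa [Nat.Coprime.gcd_eq_one hn.2, pow_one] at this
  have h5 : h' ^ i = h' := by
    conv_rhs => rw [← zpow_one h']
    rw [← mul_inv_eq_one, ← zpow_neg, ← zpow_add, ← sub_eq_add_neg, ← orderOf_dvd_iff_zpow_eq_one,
      hord, ← ZMod.intCast_zmod_eq_zero_iff_dvd]
    push_cast
    rw [h4, sub_self]
  have h6 : q (⟨n, hnK⟩ * ⟨h, hnorm hh⟩ * ⟨n, hnK⟩⁻¹ * ⟨h, hnorm hh⟩⁻¹) = 1 := by
    rw [map_mul, map_mul, map_mul, map_inv, map_inv, ← hh', ← hn', hconj, h5, mul_inv_cancel]
  simpa using (hmem _).1 h6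

theorem conj_pow_centralizer {n : G} {C : Subgroup G} (hn : n ∈ centralizer (C : Set G)) {v : G}
    (hv : v ∈ C) : n * v = v * n := (mem_centralizer_iff.1 hn v hv).symm

theorem coprime_zpowers {n : G} (hn : Good p n) {H : Subgroup G} (hH : IsPGroup p H) :
    (Nat.card (zpowers n)).Coprime (Nat.card H) := by
  obtain ⟨k, hk⟩ := IsPGroup.iff_card.1 hH
  rw [Nat.card_zpowers, hk]
  exact hn.1.pow_right k

theorem centralizes_cyclic {n : G} (hn : Good p n) {C : Subgroup G} (hC : IsPGroup p C)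
    (hcyc : IsCyclic C) (hnC : n ∈ normalizer (C : Set G)) : n ∈ centralizer (C : Set G) := by
  have : IsMulCommutative C := IsCyclic.isMulCommutative
  refine Coprime.le_centralizer_of_fixes_prime_order (zpowers_le.2 hnC) (coprime_zpowers hn hC)
    (fun v hv hvp a ha => ?_) (mem_zpowers n)
  have hvo : orderOf v = p := by
    obtain ⟨k, hk⟩ := IsPGroup.iff_orderOf.1 hC ⟨v, hv⟩
    rw [orderOf_mk] at hk
    rw [hk] at hvp ⊢
    rw [(hvp.eq_one_of_pow : k = 1), pow_one]
  have hcard : Nat.card (zpowers v) = p := by rw [Nat.card_zpowers, hvo]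
  have hnv : n ∈ normalizer (zpowers v : Set G) := by
    rw [mem_normalizer_iff_map_conj_eq]
    have hsub : ∀ D : Subgroup G, D ≤ C → Nat.card D = p → D = zpowers v := by
      intro D hD hDc
      classical
      let := Fintype.ofFinite C
      have key : ∀ E : Subgroup G, E ≤ C → Nat.card E = p →
          (E.subgroupOf C : Set C).toFinset = Finset.univ.filter (fun x : C => x ^ p = 1) := by
        intro E hE hEc
        refine Finset.eq_of_subset_of_card_le (fun x hx => ?_) ?_
        · rw [Set.mem_toFinset, SetLike.mem_coe] at hx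
          refine Finset.mem_filter.2 ⟨Finset.mem_univ _, Subtype.ext ?_⟩
          have := orderOf_dvd_natCard (⟨(x : G), hx⟩ : E)
          rw [hEc, orderOf_dvd_iff_pow_eq_one] at this
          simpa using congrArg Subtype.val this
        · refine le_trans (IsCyclic.card_pow_eq_one_le (Fact.out : p.Prime).pos) ?_
          rw [Set.toFinset_card, ← Nat.card_eq_fintype_card, SetLike.coe_sort_coe,
            Coprime.card_subgroupOf hE, hEc]
      have h1 : D.subgroupOf C = (zpowers v).subgroupOf C := SetLike.coe_injective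
        (Set.toFinset_inj.1 ((key D hD hDc).trans (key _ (zpowers_le.2 hv) hcard).symm))
      exact le_antisymm (fun x hx => (h1.le (show (⟨x, hD hx⟩ : C) ∈ D.subgroupOf C from hx)))
        (fun x hx => h1.ge (show (⟨x, zpowers_le.2 hv hx⟩ : C) ∈ (zpowers v).subgroupOf C from hx))
    refine hsub _ ((map_mono (zpowers_le.2 hv)).trans (mem_normalizer_iff_map_conj_eq.1 hnC).le) ?_
    rw [card_map_of_injective (MulAut.conj n).injective, hcard]
  have h1 := comm_mem_of_prime_index hn (bot_le : ⊥ ≤ zpowers v)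
    (by rw [normalizer_eq_top]; exact le_top) (by rw [relIndex_bot_left, hcard]) hnv
    (by rw [normalizer_eq_top]; trivial) (mem_zpowers v)
  rw [mem_bot, mul_inv_eq_one, mul_inv_eq_iff_eq_mul] at h1
  have hnc : n ∈ centralizer ({v} : Set G) := mem_centralizer_singleton_iff.2 h1
  exact mem_centralizer_singleton_iff.1 ((zpowers_le.2 hnc) ha)

theorem le_normalizer_of_isH {P : Subgroup G} (hP : IsPGroup p P) {E : Subgroup G} (hEP : E ≤ P)
    (hE : IsH E) : P ≤ normalizer (E : Set G) := by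
  rcases eq_or_lt_of_le (inf_le_left : P ⊓ normalizer (E : Set G) ≤ P) with h | h
  · exact h.ge.trans inf_le_right
  exfalso
  set K := P ⊓ normalizer (E : Set G) with hK
  obtain ⟨t, ht, htK⟩ := SetLike.exists_of_lt (Fusion.lt_inf_normalizer_of_isPGroup hP h)
  obtain ⟨htP, htN⟩ := mem_inf.1 ht
  refine htK (mem_inf.2 ⟨htP, ?_⟩)
  have hle : E.map (MulAut.conj t).toMonoidHom ≤ E := by
    refine le_trans (le_inf le_rfl ?_) (hE t)
    refine (map_mono (le_inf hEP le_normalizer : E ≤ K)).trans ?_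
    exact (mem_normalizer_iff_map_conj_eq.1 htN).le.trans inf_le_right
  exact mem_normalizer_iff_map_conj_eq.2 (eq_of_le_of_card_ge hle
    (card_map_of_injective (MulAut.conj t).injective).ge)

theorem closed_of_isH {P : Subgroup G} (hP : IsPGroup p P) {E : Subgroup G} (hEP : E ≤ P)
    (hE : IsH E) {x g : G} (hx : x ∈ E) (hg : g * x * g⁻¹ ∈ P) : g * x * g⁻¹ ∈ E :=
  hE g (mem_inf.2 ⟨⟨x, hx, rfl⟩, le_normalizer_of_isH hP hEP hE hg⟩)

theorem exists_between {P X : Subgroup G} (hP : IsPGroup p P) (hXP : X ≤ P) {k : ℕ}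
    (hk : p ^ k ∣ Nat.card P) (hX : Nat.card X ≤ p ^ k) :
    ∃ E : Subgroup G, X ≤ E ∧ E ≤ P ∧ Nat.card E = p ^ k := by
  obtain ⟨j, hj⟩ := IsPGroup.iff_card.1 (hP.to_le hXP)
  have hjk : j ≤ k := by
    rw [hj] at hX
    exact (Nat.pow_le_pow_iff_right (Fact.out : p.Prime).one_lt).1 hX
  obtain ⟨E, hE, hXE⟩ := Sylow.exists_subgroup_card_pow_prime_le p hk (X.subgroupOf P)
    ((Coprime.card_subgroupOf hXP).trans hj) hjk
  exact ⟨E.map P.subtype, fun x hx => ⟨⟨x, hXP hx⟩, hXE hx, rfl⟩, map_subtype_le _,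
    (card_map_of_injective P.subtype_injective).trans hE⟩

theorem mem_frattini_of_forall {P : Subgroup G} (hP : IsPGroup p P) {z : G} (hz : z ∈ P)
    (h : ∀ M : Subgroup G, M ≤ P → P ≤ normalizer (M : Set G) → M.relIndex P = p → z ∈ M) :
    z ∈ (frattini P).map P.subtype := by
  refine ⟨⟨z, hz⟩, ?_, rfl⟩
  refine zpowers_le.1 (Core.le_frattini fun M hM => zpowers_le.2 ?_)
  obtain ⟨hn, hi⟩ := Core.index_eq_of_isCoatom hP hM
  have hMM : (M.map P.subtype).subgroupOf P = M :=
    comap_map_eq_self_of_injective P.subtype_injective M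
  have := h (M.map P.subtype) (map_subtype_le _)
    ((normal_subgroupOf_iff_le_normalizer (map_subtype_le _)).1 (hMM.symm ▸ hn))
    (by rw [relIndex, hMM]; exact hi)
  rw [← hMM]
  exact this

/-- The hypothesis on the subgroups of order `p ^ k`. -/
def HypH (p k : ℕ) (P : Subgroup G) : Prop :=
  ∀ E : Subgroup G, E ≤ P →
    (Nat.card E = p ^ k ∨ (p ^ k = 2 ∧ Nat.card E = 4)) → IsH E

variable {k : ℕ} {P : Subgroup G}

theorem normalizes_of_hyp (hP : IsPGroup p P) (hyp : HypH p k P) {H : Subgroup G} (hHP : H ≤ P)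
    {n : G} (hn : n ∈ normalizer (H : Set G)) {E : Subgroup G} (hEH : E ≤ H)
    (hE : Nat.card E = p ^ k ∨ (p ^ k = 2 ∧ Nat.card E = 4)) :
    n ∈ normalizer (E : Set G) := by
  refine mem_normalizer_iff_map_conj_eq.2 (eq_of_le_of_card_ge ?_
    (card_map_of_injective (MulAut.conj n).injective).ge)
  rintro _ ⟨x, hx, rfl⟩
  exact closed_of_isH hP (hEH.trans hHP) (hyp E (hEH.trans hHP) hE) hx
    (hHP ((mem_normalizer_iff.1 hn x).1 (hEH hx)))

theorem centralizes_large (hP : IsPGroup p P) (hk : 1 ≤ k) (hyp : HypH p k P) {H : Subgroup G}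
    (hHP : H ≤ P) (hH : p ^ k < Nat.card H) {n : G} (hn : Good p n)
    (hnH : n ∈ normalizer (H : Set G)) : n ∈ centralizer (H : Set G) := by
  have hp : p.Prime := Fact.out
  have hHp := hP.to_le hHP
  obtain ⟨a, ha⟩ := IsPGroup.iff_card.1 hHp
  have hka : k + 1 ≤ a := by
    rw [ha] at hH
    exact (Nat.pow_lt_pow_iff_right hp.one_lt).1 hH
  -- subgroups of order `p ^ k` are centralized
  have hcent : ∀ E : Subgroup G, E ≤ H → Nat.card E = p ^ k → n ∈ centralizer (E : Set G) := by
    intro E hEH hE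
    obtain ⟨F, hEF, hFH, hF⟩ := exists_between hHp hEH (k := k + 1)
      (ha ▸ pow_dvd_pow p hka) (hE.le.trans (Nat.pow_le_pow_right hp.pos (Nat.le_succ k)))
    have hFp := hHp.to_le hFH
    by_cases hcyc : IsCyclic F
    · have : IsCyclic E := Subgroup.isCyclic_of_le hEF
      exact centralizes_cyclic hn (hHp.to_le hEH) this
        (normalizes_of_hyp hP hyp hHP hnH hEH (Or.inl hE))
    refine centralizer_le (SetLike.coe_subset_coe.2 hEF) ?_
    have hmax : ∀ M : Subgroup G, M ≤ F → M.relIndex F = p → n ∈ normalizer (M : Set G) := by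
      intro M hMF hM
      refine normalizes_of_hyp hP hyp hHP hnH (hMF.trans hFH) (Or.inl ?_)
      have h1 := Nat.card_congr (Subgroup.subgroupOfEquivOfLe hMF).toEquiv
      have h2 := (M.subgroupOf F).card_mul_index
      rw [h1, show (M.subgroupOf F).index = p from hM, hF, pow_succ] at h2
      exact Nat.eq_of_mul_eq_mul_right hp.pos h2
    have hnF : n ∈ normalizer (F : Set G) := by
      refine mem_normalizer_iff_map_conj_eq.2 (eq_of_le_of_card_ge ?_
        (card_map_of_injective (MulAut.conj n).injective).ge)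
      rintro _ ⟨y, hy, rfl⟩
      have hne : zpowers (⟨y, hy⟩ : F) ≠ ⊤ := fun ht => hcyc (isCyclic_iff_exists_zpowers_eq_top.2 ⟨_, ht⟩)
      obtain ⟨M, hM, hyM⟩ := (eq_top_or_exists_le_coatom (zpowers (⟨y, hy⟩ : F))).resolve_left hne
      have hi := (Core.index_eq_of_isCoatom hFp hM).2
      have := hmax (M.map F.subtype) (map_subtype_le _) (by
        rw [relIndex, subgroupOf, comap_map_eq_self_of_injective F.subtype_injective]; exact hi)
      exact (map_subtype_le M) ((mem_normalizer_iff.1 this y).1 ⟨⟨y, hy⟩, hyM (mem_zpowers _), rfl⟩)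
    refine Coprime.le_centralizer_of_trivial_mod_frattini (zpowers_le.2 hnF) ?_ ?_ (mem_zpowers n)
    · exact (coprime_zpowers hn hFp).coprime_dvd_right (card_subgroup_dvd_card _)
    · intro b hb f hf
      obtain ⟨i, rfl⟩ : ∃ i : ℕ, n ^ i = b := mem_powers_iff_mem_zpowers.2 hb
      have hbn : n ^ i ∈ normalizer (F : Set G) := pow_mem hnF i
      refine mem_frattini_of_forall hFp
        (mul_mem ((mem_normalizer_iff.1 hbn f).1 hf) (inv_mem hf)) fun M hMF hMn hM => ?_
      refine comm_mem_of_prime_index ?_ hMF hMn hM hbn (pow_mem (hmax M hMF hM) i) hf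
      exact ⟨hn.1.coprime_dvd_left (orderOf_pow_dvd i), hn.2.coprime_dvd_left (orderOf_pow_dvd i)⟩
  refine S4126.le_centralizer_of_fixes_four hHp (zpowers_le.2 hnH)
    (by rw [Nat.card_zpowers]; exact hn.1) (fun v hv hv4 b hb => ?_) (mem_zpowers n)
  have hnv : n ∈ centralizer ({v} : Set G) := by
    suffices ∃ E : Subgroup G, v ∈ E ∧ n ∈ centralizer (E : Set G) by
      obtain ⟨E, hvE, hnE⟩ := this
      exact mem_centralizer_singleton_iff.2 (conj_pow_centralizer hnE hvE)
    by_cases hsmall : Nat.card (zpowers v) ≤ p ^ k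
    · obtain ⟨E, hvE, hEH, hE⟩ := exists_between hHp (zpowers_le.2 hv) (k := k)
        (ha ▸ pow_dvd_pow p (by omega)) hsmall
      exact ⟨E, hvE (mem_zpowers v), hcent E hEH hE⟩
    rw [not_le, Nat.card_zpowers] at hsmall
    have hk2 : p ≤ p ^ k := Nat.le_self_pow (by omega) p
    rcases hv4 with h1 | ⟨h2, h1⟩
    · have := Nat.le_of_dvd hp.pos (orderOf_dvd_of_pow_eq_one h1)
      omega
    · subst h2
      have hd := Nat.le_of_dvd (by norm_num) (orderOf_dvd_of_pow_eq_one h1)
      have hk1 : k = 1 := by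
        by_contra hk1
        have : 2 ^ 2 ≤ 2 ^ k := Nat.pow_le_pow_right two_pos (by omega)
        omega
      subst hk1
      have hne3 : orderOf v ≠ 3 := fun h3 => by
        have := orderOf_dvd_of_pow_eq_one h1
        rw [h3] at this
        omega
      have hc : Nat.card (zpowers v) = 4 := by rw [Nat.card_zpowers]; omega
      exact ⟨zpowers v, mem_zpowers v, centralizes_cyclic hn (hHp.to_le (zpowers_le.2 hv))
        inferInstance (normalizes_of_hyp hP hyp hHP hnH (zpowers_le.2 hv) (Or.inr ⟨by norm_num, hc⟩))⟩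
  exact mem_centralizer_singleton_iff.1 ((zpowers_le.2 hnv) hb)

theorem comm_mem_frattini (hP : IsPGroup p P) (hk : 1 ≤ k) (hkP : p ^ k < Nat.card P)
    (hyp : HypH p k P) {H : Subgroup G} (hHP : H ≤ P) {n : G} (hn : Good p n)
    (hnH : n ∈ normalizer (H : Set G)) {h : G} (hh : h ∈ H) :
    n * h * n⁻¹ * h⁻¹ ∈ (frattini P).map P.subtype := by
  have hp : p.Prime := Fact.out
  rcases lt_or_ge (p ^ k) (Nat.card H) with hbig | hsmall
  · rw [conj_pow_centralizer (centralizes_large hP hk hyp hHP hbig hn hnH) hh, mul_inv_cancel_right,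
      mul_inv_cancel]
    exact one_mem _
  have hcH : n * h * n⁻¹ * h⁻¹ ∈ H :=
    mul_mem ((mem_normalizer_iff.1 hnH h).1 hh) (inv_mem hh)
  refine mem_frattini_of_forall hP (hHP hcH) fun M hMP hMn hM => ?_
  by_cases hHM : H ≤ M
  · exact hHM hcH
  obtain ⟨a, ha⟩ := IsPGroup.iff_card.1 hP
  have hMcard : p ^ k ∣ Nat.card M := by
    obtain ⟨b, hb⟩ := IsPGroup.iff_card.1 (hP.to_le hMP)
    rw [hb]
    refine pow_dvd_pow p ?_
    have h1 := (M.subgroupOf P).card_mul_index
    rw [Coprime.card_subgroupOf hMP, show (M.subgroupOf P).index = p from hM, hb, ha, ← pow_succ] at h1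
    have h2 := Nat.pow_right_injective hp.two_le h1
    rw [ha, Nat.pow_lt_pow_iff_right hp.one_lt] at hkP
    omega
  have hinv : n ∈ normalizer (H ⊓ M : Subgroup G) := by
    refine mem_normalizer_iff_map_conj_eq.2 (eq_of_le_of_card_ge ?_
      (card_map_of_injective (MulAut.conj n).injective).ge)
    rintro _ ⟨y, hy, rfl⟩
    obtain ⟨hyH, hyM⟩ := mem_inf.1 hy
    refine mem_inf.2 ⟨(mem_normalizer_iff.1 hnH y).1 hyH, ?_⟩
    obtain ⟨E, hyE, hEM, hE⟩ := exists_between (hP.to_le hMP) (zpowers_le.2 hyM) hMcard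
      ((card_le_of_le (zpowers_le.2 hyH)).trans hsmall)
    exact hEM (closed_of_isH hP (hEM.trans hMP) (hyp E (hEM.trans hMP) (Or.inl hE))
      (hyE (mem_zpowers y)) (hHP ((mem_normalizer_iff.1 hnH y).1 hyH)))
  have hidx : (H ⊓ M).relIndex H = p := by
    rw [inf_relIndex_left]
    have : (M.subgroupOf P).Normal := (normal_subgroupOf_iff_le_normalizer hMP).2 hMn
    have h1 : (M.subgroupOf P).relIndex (H.subgroupOf P) = M.relIndex H :=
      relIndex_subgroupOf hHP
    have h2 : (M.subgroupOf P).relIndex (H.subgroupOf P) ∣ (M.subgroupOf P).index :=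
      relIndex_dvd_index_of_normal _ _
    rw [h1, show (M.subgroupOf P).index = p from hM] at h2
    exact (hp.eq_one_or_self_of_dvd _ h2).resolve_left fun h3 => hHM (relIndex_eq_one.1 h3)
  exact (comm_mem_of_prime_index hn inf_le_left
    ((le_inf (le_normalizer (H := H)) (hHP.trans hMn)).trans inf_normalizer_le_normalizer_inf)
    hidx hnH hinv hh) |> fun h => (mem_inf.1 h).2

theorem hasNormalPComplement_of_hyp (S : Sylow p G)
    (hmin : ∀ q : ℕ, q.Prime → q ∣ Nat.card G → p ≤ q) (hk : 1 ≤ k)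
    (hkP : p ^ k < Nat.card (S : Subgroup G)) (hyp : HypH p k (S : Subgroup G)) :
    Cfsg.HasNormalPComplement p G := by
  have hp : p.Prime := Fact.out
  apply Fusion.hasNormalPComplement_of_inf_pResidual_le_frattini S
  refine (Fusion.inf_pResidual_le_focal S).trans ?_
  rw [focalSubgroup_def, closure_le]
  set Φ := (frattini (S : Subgroup G)).map (S : Subgroup G).subtype with hΦ
  have hΦn : (S : Subgroup G) ≤ normalizer (Φ : Set G) := by
    rw [hΦ]
    have h1 := le_normalizer_map (S : Subgroup G).subtype (H := frattini (S : Subgroup G))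
    rw [normalizer_eq_top, ← MonoidHom.range_eq_map, range_subtype] at h1
    exact h1
  have hcomm : ∀ s ∈ (S : Subgroup G), ∀ y ∈ (S : Subgroup G), s * y * s⁻¹ * y⁻¹ ∈ Φ := by
    intro s hs y hy
    have : Group.IsNilpotent (S : Subgroup G) := S.2.isNilpotent
    exact ⟨⁅(⟨s, hs⟩ : (S : Subgroup G)), ⟨y, hy⟩⁆, Core.commutator_le_frattini
      (commutator_mem_commutator (mem_top _) (mem_top _)), by simp [commutatorElement_def]⟩
  -- tame intersections
  have hstep : ∀ Q : Sylow p G, Fusion.IsTame S Q →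
      ∀ u ∈ normalizer (((S : Subgroup G) ⊓ (Q : Subgroup G) : Subgroup G) : Set G),
        ∀ y ∈ ((S : Subgroup G) ⊓ (Q : Subgroup G) : Subgroup G), u * y * u⁻¹ * y⁻¹ ∈ Φ := by
    intro Q hQ u hu
    set D := (S : Subgroup G) ⊓ (Q : Subgroup G) with hD
    set N := normalizer (D : Set G) with hN
    let W : Subgroup G :=
      { carrier := {u | u ∈ N ∧ ∀ y ∈ D, u * y * u⁻¹ * y⁻¹ ∈ Φ}
        one_mem' := ⟨one_mem _, fun y _ => by simp [Subgroup.one_mem]⟩
        mul_mem' := fun {a b} ha hb => ⟨mul_mem ha.1 hb.1, fun y hy => by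
          have h1 := ha.2 _ ((mem_normalizer_iff.1 hb.1 y).1 hy)
          have h2 := hb.2 y hy
          have := mul_mem h1 h2
          convert this using 1
          group⟩
        inv_mem' := fun {a} ha => ⟨inv_mem ha.1, fun y hy => by
          have h1 := ha.2 _ ((mem_normalizer_iff''.1 ha.1 y).1 hy)
          have := inv_mem h1
          convert this using 1
          group⟩ }
    suffices N ≤ W from fun y hy => (this hu).2 y hy
    have hSW : ((S : Subgroup G) ⊓ N).subgroupOf N ≤ W.subgroupOf N := fun s hs =>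
      ⟨s.2, fun y hy => hcomm _ (mem_inf.1 hs).1 y (inf_le_left (a := (S : Subgroup G)) hy)⟩
    rw [← subgroupOf_eq_top, ← index_eq_one]
    by_contra hne
    obtain ⟨q, hq, hqd⟩ := Nat.exists_prime_and_dvd hne
    rcases eq_or_ne q p with rfl | hqp
    · exact hQ.1 (hqd.trans (index_dvd_of_le hSW))
    · have := Fact.mk hq
      let T : Sylow q N := default
      have hTW : (T : Subgroup N) ≤ W.subgroupOf N := by
        intro t ht
        refine ⟨t.2, fun y hy => ?_⟩
        have hgood : Good p (t : G) := by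
          refine good_of_coprime hp hmin ?_
          obtain ⟨j, hj⟩ := IsPGroup.iff_orderOf.1 T.2 ⟨t, ht⟩
          rw [orderOf_mk, ← Subgroup.orderOf_coe] at hj
          rw [hj]
          exact ((Nat.coprime_primes hq hp).2 hqp).pow_left j
        exact comm_mem_frattini S.2 hk hkP hyp inf_le_left hgood t.2 hy
      exact T.not_dvd_index (hqd.trans (index_dvd_of_le hTW))
  -- chains
  have hchain : ∀ (A : Set G) (g : G), Fusion.AlperinChain S A g →
      ∀ a ∈ A, g⁻¹ * a * g * a⁻¹ ∈ Φ := by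
    intro A g hg
    induction hg with
    | nil A => intro a _; simp [Subgroup.one_mem]
    | @cons A g x Q hA hx hQ _ ih =>
      intro a ha
      have haD := hA ha
      have h1 := hstep Q hQ x⁻¹ (inv_mem hx) a haD
      have h2 := ih (x⁻¹ * a * x) (Fusion.mem_conjSet.2 (by simpa [mul_assoc] using ha))
      have := mul_mem h2 h1
      convert this using 1
      group
  rintro z ⟨hzP, x, hx, u, rfl⟩
  rw [SetLike.mem_coe]
  have hxu : u * x⁻¹ * u⁻¹ ∈ (S : Subgroup G) := by
    have := mul_mem (inv_mem hx) hzP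
    simpa [commutatorElement_def, mul_assoc] using this
  have h1 := hchain _ _ (Fusion.alperinChain_of_subset S (A := {x⁻¹}) (g := u⁻¹)
    (Set.singleton_subset_iff.2 (inv_mem hx)) (by
      intro a ha
      rw [Fusion.mem_conjSet, Set.mem_singleton_iff] at ha
      have : a = u * x⁻¹ * u⁻¹ := by rw [← ha]; group
      rw [this]; exact hxu)) x⁻¹ rfl
  rw [inv_inv, inv_inv] at h1
  have h2 := (mem_normalizer_iff.1 (hΦn hx) _).1 h1
  convert h2 using 1
  rw [commutatorElement_def]
  group

theorem hasNormalPComplement_of_cyclic (S : Sylow p G)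
    (hmin : ∀ q : ℕ, q.Prime → q ∣ Nat.card G → p ≤ q) (hc : IsCyclic ↥(S : Subgroup G)) :
    Cfsg.HasNormalPComplement p G := by
  have hp : p.Prime := Fact.out
  have : IsMulCommutative (S : Subgroup G) := IsCyclic.isMulCommutative
  apply Fusion.hasNormalPComplement_of_normalizer_le_centralizer S
  set N := normalizer ((S : Subgroup G) : Set G)
  set C := centralizer ((S : Subgroup G) : Set G)
  change N ≤ C
  rw [← subgroupOf_eq_top, ← index_eq_one]
  by_contra hne
  obtain ⟨q, hq, hqd⟩ := Nat.exists_prime_and_dvd hne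
  rcases eq_or_ne q p with rfl | hqp
  · have hSC : (S : Subgroup G).subgroupOf N ≤ C.subgroupOf N :=
      comap_mono (Subgroup.le_centralizer _)
    exact (S.subtype le_normalizer).not_dvd_index (hqd.trans (index_dvd_of_le hSC))
  · have := Fact.mk hq
    let T : Sylow q N := default
    have hTW : (T : Subgroup N) ≤ C.subgroupOf N := by
      intro t ht
      refine centralizes_cyclic ?_ S.2 hc t.2
      refine good_of_coprime hp hmin ?_
      obtain ⟨j, hj⟩ := IsPGroup.iff_orderOf.1 T.2 ⟨t, ht⟩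
      rw [orderOf_mk, ← Subgroup.orderOf_coe] at hj
      rw [N.subtype_apply, hj]
      exact ((Nat.coprime_primes hq hp).2 hqp).pow_left j
    exact T.not_dvd_index (hqd.trans (index_dvd_of_le hTW))

end Cfsg.Agent.HSub
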