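import Cfsg.Prelude.Def_SolvableStructure
import Cfsg.Agent.HSub.Basic
import Cfsg.Agent.Core.Huppert
import Cfsg.Agent.Core.PCore

/-!
Supersolvability from strongly closed subgroups of one order in the Sylow subgroups of a normal
subgroup.
-/

set_option autoImplicit false

namespace Cfsg.Agent.HSub

open Subgroup
open scoped commutatorElement
open Cfsg.Agent.Core (powCommutator)

universe u

section

variable {G : Type u} [Group G] [Finite G] {p : ℕ} [Fact p.Prime]

omit [Fact p.Prime] in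
theorem powCommutator_mem_zpow {G' : Type*} [Group G'] (f : G →* G') {n : G}
    (hn : n ∈ powCommutator p G) : f n ∈ powCommutator p G' :=
  Core.map_powCommutator_le p f ⟨n, hn, rfl⟩

theorem comm_mem_of_normal {K H : Subgroup G} [K.Normal] [H.Normal] (hKH : K ≤ H)
    (hidx : K.relIndex H = p) {n : G} (hn : n ∈ powCommutator p G) {h : G} (hh : h ∈ H) :
    n * h * n⁻¹ * h⁻¹ ∈ K := by
  have hN : (H.map (QuotientGroup.mk' K)).Normal :=
    (inferInstance : H.Normal).map _ (QuotientGroup.mk'_surjective K)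
  have hcard : Nat.card (H.map (QuotientGroup.mk' K)) = p := by
    have h1 := Core.card_map_mk_mul K H
    rw [inf_of_le_right hKH] at h1
    have h2 : Nat.card K * p = Nat.card H := by
      rw [← hidx, ← relIndex_bot_left K, relIndex_mul_relIndex _ _ _ bot_le hKH, relIndex_bot_left]
    rw [← h2, mul_comm (Nat.card K) p] at h1
    exact Nat.eq_of_mul_eq_mul_right Nat.card_pos h1
  have h3 := mem_centralizer_iff.1
    (Core.powCommutator_le_centralizer hcard (powCommutator_mem_zpow (QuotientGroup.mk' K) hn)) _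
    (mem_map_of_mem _ hh)
  rw [← QuotientGroup.eq_one_iff (N := K)]
  change (QuotientGroup.mk' K) (n * h * n⁻¹ * h⁻¹) = 1
  rw [map_mul, map_mul, map_mul, map_inv, map_inv, ← h3, mul_inv_cancel_right, mul_inv_cancel]

theorem subgroup_eq_of_card_eq {C D D' : Subgroup G} (hC : IsCyclic C) (hD : D ≤ C) (hD' : D' ≤ C)
    (hcard : Nat.card D = Nat.card D') : D = D' := by
  classical
  have := hC
  let := Fintype.ofFinite C
  have key : ∀ E : Subgroup G, E ≤ C →
      (E.subgroupOf C : Set C).toFinset =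
        Finset.univ.filter (fun x : C => x ^ Nat.card E = 1) := by
    intro E hE
    refine Finset.eq_of_subset_of_card_le (fun x hx => ?_) ?_
    · rw [Set.mem_toFinset, SetLike.mem_coe] at hx
      refine Finset.mem_filter.2 ⟨Finset.mem_univ _, Subtype.ext ?_⟩
      have h' : (⟨(x : G), hx⟩ : E) ^ Nat.card E = 1 := pow_card_eq_one'
      have := congrArg Subtype.val h'
      rw [Subgroup.coe_pow, Subgroup.coe_one] at this
      rw [Subgroup.coe_pow, Subgroup.coe_one]
      exact this
    · refine le_trans (IsCyclic.card_pow_eq_one_le Nat.card_pos) ?_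
      rw [Set.toFinset_card, ← Nat.card_eq_fintype_card, SetLike.coe_sort_coe,
        Coprime.card_subgroupOf hE]
  have h1 : D.subgroupOf C = D'.subgroupOf C := SetLike.coe_injective
    (Set.toFinset_inj.1 ((key D hD).trans (by rw [key D' hD', hcard])))
  exact le_antisymm (fun x hx => h1.le (show (⟨x, hD hx⟩ : C) ∈ D.subgroupOf C from hx))
    (fun x hx => h1.ge (show (⟨x, hD' hx⟩ : C) ∈ D'.subgroupOf C from hx))

theorem centralizes_cyclic_normal {C : Subgroup G} [hCn : C.Normal] (hC : IsPGroup p C)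
    (hcyc : IsCyclic C) {n : G} (hn : n ∈ powCommutator p G) (hn' : (orderOf n).Coprime p) :
    n ∈ centralizer (C : Set G) := by
  have : IsMulCommutative C := IsCyclic.isMulCommutative
  obtain ⟨k, hk⟩ := IsPGroup.iff_card.1 hC
  refine Coprime.le_centralizer_of_fixes_prime_order (A := zpowers n)
    (by rw [normalizer_eq_top]; exact le_top) (by rw [Nat.card_zpowers, hk]; exact hn'.pow_right k)
    (fun v hv hvp a ha => ?_) (mem_zpowers n)
  obtain ⟨i, hi⟩ := IsPGroup.iff_orderOf.1 hC ⟨v, hv⟩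
  rw [orderOf_mk] at hi
  rw [hi] at hvp
  have hcard : Nat.card (zpowers v) = p := by
    rw [Nat.card_zpowers, hi, (hvp.eq_one_of_pow : i = 1), pow_one]
  have : (zpowers v).Normal := ⟨fun x hx g => by
    have h1 := subgroup_eq_of_card_eq (D := (zpowers v).map (MulAut.conj g).toMonoidHom) hcyc
      (by rintro _ ⟨y, hy, rfl⟩; exact hCn.conj_mem y (zpowers_le.2 hv hy) g) (zpowers_le.2 hv)
      (card_map_of_injective (MulAut.conj g).injective)
    exact h1.le ⟨x, hx, rfl⟩⟩
  have h2 := mem_centralizer_iff.1 ((zpowers_le.2 (Core.powCommutator_le_centralizer hcard hn)) ha) v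
    (mem_zpowers v)
  exact h2.symm

variable {k : ℕ} {Q : Subgroup G}

theorem normal_of_hyp [hQn : Q.Normal] (hQ : IsPGroup p Q) (hyp : HypH p k Q) {E : Subgroup G}
    (hEQ : E ≤ Q) (hE : Nat.card E = p ^ k ∨ (p ^ k = 2 ∧ Nat.card E = 4)) : E.Normal :=
  ⟨fun x hx g => closed_of_isH hQ hEQ (hyp E hEQ hE) hx (hQn.conj_mem x (hEQ hx) g)⟩

theorem centralizes_normal [Q.Normal] (hQ : IsPGroup p Q) (hk : 1 ≤ k)
    (hkQ : p ^ k < Nat.card Q) (hyp : HypH p k Q) {n : G} (hn : n ∈ powCommutator p G)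
    (hn' : (orderOf n).Coprime p) : n ∈ centralizer (Q : Set G) := by
  have hp : p.Prime := Fact.out
  obtain ⟨a, ha⟩ := IsPGroup.iff_card.1 hQ
  have hka : k + 1 ≤ a := by
    rw [ha] at hkQ
    exact (Nat.pow_lt_pow_iff_right hp.one_lt).1 hkQ
  have hcent : ∀ E : Subgroup G, E ≤ Q → Nat.card E = p ^ k → n ∈ centralizer (E : Set G) := by
    intro E hEQ hE
    obtain ⟨F, hEF, hFQ, hF⟩ := exists_between hQ hEQ (k := k + 1)
      (ha ▸ pow_dvd_pow p hka) (hE.le.trans (Nat.pow_le_pow_right hp.pos (Nat.le_succ k)))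
    have hFp := hQ.to_le hFQ
    by_cases hcyc : IsCyclic F
    · have := normal_of_hyp hQ hyp hEQ (Or.inl hE)
      exact centralizes_cyclic_normal (hQ.to_le hEQ) (Subgroup.isCyclic_of_le hEF) hn hn'
    refine centralizer_le (SetLike.coe_subset_coe.2 hEF) ?_
    have hmax : ∀ M : Subgroup G, M ≤ F → M.relIndex F = p → M.Normal := by
      intro M hMF hM
      refine normal_of_hyp hQ hyp (hMF.trans hFQ) (Or.inl ?_)
      have h2 := (M.subgroupOf F).card_mul_index
      rw [Coprime.card_subgroupOf hMF, show (M.subgroupOf F).index = p from hM, hF, pow_succ] at h2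
      exact Nat.eq_of_mul_eq_mul_right hp.pos h2
    have hFn : F.Normal := by
      refine ⟨fun y hy g => ?_⟩
      have hne : zpowers (⟨y, hy⟩ : F) ≠ ⊤ :=
        fun ht => hcyc (isCyclic_iff_exists_zpowers_eq_top.2 ⟨_, ht⟩)
      obtain ⟨M, hM, hyM⟩ :=
        (eq_top_or_exists_le_coatom (zpowers (⟨y, hy⟩ : F))).resolve_left hne
      have := hmax (M.map F.subtype) (map_subtype_le _) (by
        rw [relIndex, subgroupOf, comap_map_eq_self_of_injective F.subtype_injective]
        exact (Core.index_eq_of_isCoatom hFp hM).2)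
      exact (map_subtype_le M)
        (this.conj_mem y ⟨⟨y, hy⟩, hyM (mem_zpowers _), rfl⟩ g)
    obtain ⟨b, hb⟩ := IsPGroup.iff_card.1 hFp
    refine Coprime.le_centralizer_of_trivial_mod_frattini (A := zpowers n)
      (by rw [normalizer_eq_top]; exact le_top)
      ((Nat.Coprime.coprime_dvd_right (card_subgroup_dvd_card _)
        (by rw [Nat.card_zpowers, hb]; exact hn'.pow_right b)))
      ?_ (mem_zpowers n)
    intro c hc f hf
    have hc' : c ∈ powCommutator p G := zpowers_le.2 hn hc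
    refine mem_frattini_of_forall hFp
      (mul_mem (hFn.conj_mem f hf c) (inv_mem hf)) fun M hMF _ hM => ?_
    have := hmax M hMF hM
    exact comm_mem_of_normal hMF hM hc' hf
  refine S4126.le_centralizer_of_fixes_four hQ (A := zpowers n)
    (by rw [normalizer_eq_top]; exact le_top)
    (by rw [Nat.card_zpowers]; exact hn') (fun v hv hv4 b hb => ?_) (mem_zpowers n)
  have hnv : n ∈ centralizer ({v} : Set G) := by
    suffices ∃ E : Subgroup G, v ∈ E ∧ n ∈ centralizer (E : Set G) by
      obtain ⟨E, hvE, hnE⟩ := this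
      exact mem_centralizer_singleton_iff.2 (conj_pow_centralizer hnE hvE)
    by_cases hsmall : Nat.card (zpowers v) ≤ p ^ k
    · obtain ⟨E, hvE, hEH, hE⟩ := exists_between hQ (zpowers_le.2 hv) (k := k)
        (ha ▸ pow_dvd_pow p (by omega)) hsmall
      exact ⟨E, hvE (mem_zpowers v), hcent E hEH hE⟩
    rw [not_le, Nat.card_zpowers] at hsmall
    have hk2 : p ≤ p ^ k := Nat.le_self_pow (by omega) p
    rcases hv4 with h1 | ⟨h2, h1⟩
    · have := Nat.le_of_dvd hp.pos (orderOf_dvd_of_pow_eq_one h1)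
      omega
    · subst h2
      have hd := Nat.le_of_dvd (by norm_num) (orderOf_dvd_of_pow_eq_one h1)
      have hk1 : k = 1 := by
        by_contra hk1
        have : 2 ^ 2 ≤ 2 ^ k := Nat.pow_le_pow_right two_pos (by omega)
        omega
      subst hk1
      have hne3 : orderOf v ≠ 3 := fun h3 => by
        have := orderOf_dvd_of_pow_eq_one h1
        rw [h3] at this
        omega
      have hc : Nat.card (zpowers v) = 4 := by rw [Nat.card_zpowers]; omega
      have := normal_of_hyp hQ hyp (zpowers_le.2 hv) (Or.inr ⟨by norm_num, hc⟩)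
      exact ⟨zpowers v, mem_zpowers v, centralizes_cyclic_normal (hQ.to_le (zpowers_le.2 hv))
        inferInstance hn hn'⟩
  exact mem_centralizer_singleton_iff.1 ((zpowers_le.2 hnv) hb)

omit [Fact p.Prime] in
theorem exists_pow_coprime_lift (hp : p.Prime) {G' : Type*} [Group G'] (f : G →* G') (x : G) (hx : (orderOf (f x)).Coprime p) :
    ∃ y ∈ zpowers x, (orderOf y).Coprime p ∧ f x ∈ zpowers (f y) := by
  set t := p ^ (orderOf x).factorization p with ht
  refine ⟨x ^ t, pow_mem (mem_zpowers x) _, ?_, ?_⟩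
  · rw [orderOf_pow_of_dvd (pow_ne_zero _ hp.ne_zero) (Nat.ordProj_dvd _ _)]
    exact (Nat.coprime_ordCompl hp (orderOf_pos x).ne').symm
  · obtain ⟨m, hm⟩ := exists_pow_eq_self_of_coprime (x := f x) (n := t) (hx.symm.pow_left _)
    rw [map_pow]
    exact mem_zpowers_iff.2 ⟨m, by rw [zpow_natCast, hm]⟩

/-- Extension by a normal `p`-subgroup on which `powCommutator p` acts through a `p`-group. -/
theorem isSupersolvable_of_pGroup (m : ℕ) : ∀ (G : Type u) [Group G] [Finite G] (Q : Subgroup G)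
    [Q.Normal], Nat.card Q = m → IsPGroup p Q → Cfsg.IsSupersolvable (G ⧸ Q) →
    (∀ n ∈ powCommutator p G, (orderOf n).Coprime p → n ∈ centralizer (Q : Set G)) →
    Cfsg.IsSupersolvable G := by
  induction m using Nat.strong_induction_on with
  | _ m ih =>
  intro G _ _ Q _ hm hQ hss hcen
  have hp : p.Prime := Fact.out
  by_cases hQb : Q = ⊥
  · exact Core.isSupersolvable_congr ((QuotientGroup.quotientMulEquivOfEq hQb).trans
      QuotientGroup.quotientBot) hss
  obtain ⟨N, hNQ, hN⟩ := Core.exists_isMinNormal_le hQb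
  have := hN.normal
  have hNp := hQ.to_le hNQ
  have hs := QuotientGroup.mk'_surjective N
  -- the quotient
  have hq : Cfsg.IsSupersolvable (G ⧸ N) := by
    have hQn : (Q.map (QuotientGroup.mk' N)).Normal := (inferInstance : Q.Normal).map _ hs
    refine ih (Nat.card (Q.map (QuotientGroup.mk' N))) ?_ (G ⧸ N) (Q.map (QuotientGroup.mk' N)) rfl
      (hQ.map _) ?_ ?_
    · have h1 := Core.card_map_mk_mul N Q
      rw [inf_of_le_right hNQ, hm] at h1
      have h2 : 1 < Nat.card N := by
        rcases Nat.lt_or_ge 1 (Nat.card N) with h | h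
        · exact h
        · exact absurd (card_eq_one.1 (le_antisymm h Nat.card_pos)) hN.ne_bot
      rw [← h1]
      exact lt_mul_of_one_lt_right Nat.card_pos h2
    · exact Core.isSupersolvable_congr (QuotientGroup.quotientQuotientEquivQuotient N Q hNQ).symm hss
    · intro n hn hn'
      obtain ⟨x, hx, rfl⟩ : n ∈ (powCommutator p G).map (QuotientGroup.mk' N) := by
        refine (show powCommutator p (G ⧸ N) ≤ _ from ?_) hn
        rw [powCommutator, closure_le]
        rintro _ (⟨a, b, rfl⟩ | ⟨a, rfl⟩)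
        · obtain ⟨a, rfl⟩ := hs a
          obtain ⟨b, rfl⟩ := hs b
          exact ⟨⁅a, b⁆, subset_closure (Or.inl ⟨a, b, rfl⟩), map_commutatorElement _ _ _⟩
        · obtain ⟨a, rfl⟩ := hs a
          exact ⟨a ^ (p - 1), subset_closure (Or.inr ⟨a, rfl⟩), map_pow _ _ _⟩
      obtain ⟨y, hy, hyc, hyg⟩ := exists_pow_coprime_lift hp (QuotientGroup.mk' N) x hn'
      refine zpowers_le.2 ?_ hyg
      have hy' := hcen y (zpowers_le.2 hx hy) hyc
      rw [mem_centralizer_iff]
      rintro _ ⟨q, hq, rfl⟩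
      rw [← map_mul, ← map_mul, mem_centralizer_iff.1 hy' q hq]
  -- `powCommutator p G` centralizes `N`
  have hR : powCommutator p G ≤ centralizer (N : Set G) := by
    set R := powCommutator p G
    set C := N ⊓ centralizer (R : Set G) with hC
    have hRn : R.Normal := ⟨fun z hz g => powCommutator_mem_zpow (MulAut.conj g).toMonoidHom hz⟩
    have hCn : C.Normal := inferInstance
    rcases hN.eq_of_le C hCn inf_le_left with h | h
    · exfalso
      -- the action of `R` on `N` is through a `p`-group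
      have hNn : R ≤ normalizer (N : Set G) := by rw [normalizer_eq_top]; exact le_top
      let φ : R →* MulAut N := N.normalizerMonoidHom.comp (inclusion hNn)
      have hpg : IsPGroup p φ.range := by
        rintro ⟨_, r, rfl⟩
        set t := orderOf (r : G) / p ^ (orderOf (r : G)).factorization p with ht
        refine ⟨(orderOf (r : G)).factorization p, Subtype.ext ?_⟩
        have h1 : ((r : G) ^ p ^ (orderOf (r : G)).factorization p) ∈ centralizer (N : Set G) := by
          refine centralizer_le (SetLike.coe_subset_coe.2 hNQ) (hcen _ (pow_mem r.2 _) ?_)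
          rw [orderOf_pow_of_dvd (pow_ne_zero _ hp.ne_zero) (Nat.ordProj_dvd _ _)]
          exact (Nat.coprime_ordCompl hp (orderOf_pos _).ne').symm
        rw [Subgroup.coe_pow, Subgroup.coe_one, ← map_pow]
        apply MulEquiv.ext
        intro y
        apply Subtype.ext
        change ((r ^ p ^ (orderOf (r : G)).factorization p : R) : G) * y *
          ((r ^ p ^ (orderOf (r : G)).factorization p : R) : G)⁻¹ = y
        rw [Subgroup.coe_pow, ← mem_centralizer_iff.1 h1 y y.2, mul_inv_cancel_right]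
      have hdvd : p ∣ Nat.card N := by
        obtain ⟨i, hi⟩ := IsPGroup.iff_card.1 hNp
        rw [hi]
        refine dvd_pow_self p fun h0 => hN.ne_bot ?_
        rw [h0, pow_zero] at hi
        exact card_eq_one.1 hi
      obtain ⟨v, hv, hv1⟩ := hpg.exists_fixed_point_of_prime_dvd_card_of_fixed_point
        (α := N) hdvd (a := 1) (fun g => map_one (g : MulAut N))
      apply hv1
      have : (v : G) ∈ C := mem_inf.2 ⟨v.2, mem_centralizer_iff.2 fun r hr => by
        have h2 := congrArg Subtype.val (hv ⟨φ ⟨r, hr⟩, ⟨⟨r, hr⟩, rfl⟩⟩)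
        exact mul_inv_eq_iff_eq_mul.1 h2⟩
      rw [h, mem_bot] at this
      exact (Subtype.ext this.symm)
    · exact le_centralizer_iff.1 (inf_eq_left.1 h)
  -- so `N` has order `p`
  have hNab : IsMulCommutative N :=
    ⟨⟨fun a b => Subtype.ext ((hN.le_centralizer_of_isPGroup hQ hNQ) (hNQ b.2) a a.2)⟩⟩
  have hexp : ∀ y : N, y ^ p = 1 := by
    obtain ⟨r, hr, hrexp⟩ := hN.exists_prime_pow_eq_one
    intro y
    obtain ⟨i, hi⟩ := IsPGroup.iff_orderOf.1 hNp y
    have h1 := orderOf_dvd_of_pow_eq_one (hrexp y y.2)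
    rw [Subgroup.orderOf_coe, hi] at h1
    rcases Nat.eq_zero_or_pos i with rfl | hipos
    · rw [pow_zero, orderOf_eq_one_iff] at hi
      rw [hi, one_pow]
    · have hpr : p = r := (Nat.prime_dvd_prime_iff_eq hp hr).1 ((dvd_pow_self p hipos.ne').trans h1)
      exact Subtype.ext (hpr ▸ hrexp y y.2)
  have hpw : ∀ x : G, ∀ v ∈ N, x * v * x⁻¹ ∈ zpowers v := by
    intro x
    open scoped IsMulCommutative in
    have hnt : Nontrivial N := (nontrivial_iff_ne_bot N).2 hN.ne_bot
    open scoped IsMulCommutative in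
    obtain ⟨v, hv1, a, ha⟩ := Core.exists_map_eq_pow (N := N) (p := p) hexp
      (MulAut.conjNormal (H := N) x).toMonoidHom (fun y => by
        have hit : ∀ j : ℕ, ((MulAut.conjNormal (H := N) x).toMonoidHom^[j] y : N) =
            MulAut.conjNormal (H := N) (x ^ j) y := by
          intro j
          induction j with
          | zero => simp
          | succ j ih =>
            rw [Function.iterate_succ_apply', ih, pow_succ' x, map_mul, MulAut.mul_apply]
            rfl
        rw [hit]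
        refine Subtype.ext ?_
        rw [MulAut.conjNormal_apply, mul_inv_eq_iff_eq_mul]
        exact (mem_centralizer_iff.1 (hR (subset_closure (Or.inr ⟨x, rfl⟩))) y y.2).symm)
    have hval : x * (v : G) * x⁻¹ = (v : G) ^ a := congrArg Subtype.val ha
    let E : Subgroup G :=
      { carrier := {y | y ∈ N ∧ x * y * x⁻¹ = y ^ a}
        one_mem' := ⟨one_mem _, by simp⟩
        mul_mem' := by
          rintro y z ⟨hy, hy'⟩ ⟨hz, hz'⟩
          refine ⟨mul_mem hy hz, ?_⟩
          rw [(Commute.mul_pow (setLike_mul_comm hy hz) a), ← hy', ← hz']; simp [mul_assoc]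
        inv_mem' := by
          rintro y ⟨hy, hy'⟩
          refine ⟨inv_mem hy, ?_⟩
          rw [inv_pow, ← hy']; simp [mul_assoc] }
    have hEn : E.Normal := ⟨fun y hy w => by
      obtain ⟨hyN, hy'⟩ := hy
      refine ⟨hN.normal.conj_mem y hyN w, ?_⟩
      rw [conj_pow, ← hy']
      have hcm : (w⁻¹ * x * w * x⁻¹) ∈ centralizer (N : Set G) :=
        hR (subset_closure (Or.inl ⟨w⁻¹, x, by simp [commutatorElement_def]⟩))
      have h5 := mem_centralizer_iff.1 hcm _ (hN.normal.conj_mem y hyN x)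
      calc x * (w * y * w⁻¹) * x⁻¹
          = w * ((w⁻¹ * x * w * x⁻¹) * (x * y * x⁻¹) * (w⁻¹ * x * w * x⁻¹)⁻¹) * w⁻¹ := by group
        _ = w * (x * y * x⁻¹) * w⁻¹ := by rw [← h5]; group⟩
    have hEN : E = N := by
      refine (hN.eq_of_le E hEn fun y hy => hy.1).resolve_left fun hb => hv1 ?_
      have : (v : G) ∈ E := ⟨v.2, hval⟩
      rw [hb, mem_bot] at this
      exact Subtype.ext this
    intro u hu
    obtain ⟨-, hu'⟩ := hEN.ge hu
    rw [hu']
    exact pow_mem (mem_zpowers u) a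
  have hcyc : IsCyclic N := by
    obtain ⟨v, hv, hv1⟩ := (bot_or_exists_ne_one N).resolve_left hN.ne_bot
    have hn : (zpowers v).Normal := ⟨fun y hy g => by
      obtain ⟨i, rfl⟩ := mem_zpowers_iff.1 hy
      rw [← conj_zpow]
      exact zpow_mem (hpw g v hv) i⟩
    rcases hN.eq_of_le _ hn (zpowers_le.2 hv) with h | h
    · exact absurd (zpowers_eq_bot.1 h) hv1
    · rw [← h]; infer_instance
  exact Core.isSupersolvable_of_cyclic_normal N hq

end

/-- The hypothesis on the noncyclic Sylow subgroups of `E`. -/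
def SylowHyp {G : Type u} [Group G] (E : Subgroup G) : Prop :=
  ∀ (p : ℕ), p.Prime → ∀ P : Subgroup G, P ≤ E → IsPGroup p P → ¬ p ∣ P.relIndex E →
    ¬ IsCyclic ↥P → ∃ k, 1 ≤ k ∧ p ^ k < Nat.card P ∧ HypH p k P

theorem hypH_subgroupOf {G : Type u} [Group G] [Finite G] {p k : ℕ} {P E : Subgroup G} (hPE : P ≤ E)
    (h : HypH p k P) : HypH p k (P.subgroupOf E) := by
  intro F hF hcard g x hx
  obtain ⟨hxg, hxN⟩ := mem_inf.1 hx
  obtain ⟨y, hy, rfl⟩ := hxg
  have hcard' : Nat.card (F.map E.subtype) = Nat.card F := card_map_of_injective E.subtype_injective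
  have h1 := h (F.map E.subtype) ((map_mono hF).trans
    (by rw [subgroupOf_map_subtype, inf_of_le_left hPE])) (by rwa [hcard']) (g : G)
  have hx' : ((MulAut.conj g y : E) : G) ∈ F.map E.subtype := by
    refine h1 (mem_inf.2 ⟨⟨y, ⟨y, hy, rfl⟩, rfl⟩, ?_⟩)
    exact le_normalizer_map E.subtype ⟨_, hxN, rfl⟩
  obtain ⟨w, hw, hwx⟩ := hx'
  change MulAut.conj g y ∈ F
  have e : w = MulAut.conj g y := Subtype.ext hwx
  rwa [← e]

theorem exists_normal_sylow (m : ℕ) : ∀ {G : Type u} [Group G] [Finite G] (E : Subgroup G) [E.Normal],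
    Nat.card E = m → E ≠ ⊥ → SylowHyp E →
    ∃ (q : ℕ) (Q : Subgroup G), q.Prime ∧ Q.Normal ∧ Q ≤ E ∧ Q ≠ ⊥ ∧ IsPGroup q Q ∧
      ¬ q ∣ Q.relIndex E := by
  induction m using Nat.strong_induction_on with
  | _ m ih =>
  intro G _ _ E _ hm hE hyp
  have h1 : Nat.card E ≠ 1 := fun h => hE (card_eq_one.1 h)
  set p := (Nat.card E).minFac with hp
  have hpp : p.Prime := Nat.minFac_prime h1
  have := Fact.mk hpp
  let P : Sylow p E := default
  have hPn : Cfsg.HasNormalPComplement p E := by
    have hmin : ∀ q : ℕ, q.Prime → q ∣ Nat.card E → p ≤ q := fun q hq hd =>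
      Nat.minFac_le_of_dvd hq.two_le hd
    by_cases hc : IsCyclic ↥(P : Subgroup E)
    · exact hasNormalPComplement_of_cyclic P hmin hc
    set P' := (P : Subgroup E).map E.subtype with hP'
    have hPP : P'.subgroupOf E = P := comap_map_eq_self_of_injective E.subtype_injective _
    obtain ⟨k, hk, hkP, hH⟩ := hyp p hpp P' (map_subtype_le _) (P.2.map _)
      (by rw [relIndex, hPP]; exact P.not_dvd_index)
      (fun hc' => hc (isCyclic_of_injective
        ((P : Subgroup E).equivMapOfInjective E.subtype E.subtype_injective).toMonoidHom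
        ((P : Subgroup E).equivMapOfInjective E.subtype E.subtype_injective).injective))
    refine hasNormalPComplement_of_hyp P hmin hk ?_ ?_
    · rwa [hP', card_map_of_injective E.subtype_injective] at hkP
    · have h3 := hypH_subgroupOf (map_subtype_le _) hH
      rw [hPP] at h3
      exact h3
  obtain ⟨S, K, hKn, hKS⟩ := hPn
  have hKcop : (Nat.card K).Coprime p := by
    rw [← hKS.index_eq_card]
    exact (hpp.coprime_iff_not_dvd.2 S.not_dvd_index).symm
  have hKcore : K = Cfsg.pPrimeCore p E := by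
    refine eq_of_le_of_card_ge (Core.le_pPrimeCore hKcop) (Nat.le_of_dvd Nat.card_pos ?_)
    have h2 := K.card_mul_index
    rw [hKS.symm.index_eq_card] at h2
    refine Nat.Coprime.dvd_of_dvd_mul_right (m := Nat.card K) (n := Nat.card (S : Subgroup E)) ?_ ?_
    · obtain ⟨i, hi⟩ := IsPGroup.iff_card.1 S.2
      rw [hi]
      exact (Core.coprime_card_pPrimeCore (G := E)).pow_right i
    · exact h2.symm ▸ card_subgroup_dvd_card _
  have : K.Characteristic := by
    rw [hKcore]
    exact characteristic_iff_map_le.2 fun φ => Core.map_pPrimeCore_le φ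
  set K' := K.map E.subtype with hK'
  have hK'n : K'.Normal := inferInstance
  have hKE : K' ≤ E := map_subtype_le _
  have hrel : K'.relIndex E = Nat.card (S : Subgroup E) := by
    rw [relIndex, hK', subgroupOf, comap_map_eq_self_of_injective E.subtype_injective,
      hKS.symm.index_eq_card]
  obtain ⟨i, hi⟩ := IsPGroup.iff_card.1 S.2
  by_cases hKb : K' = ⊥
  · refine ⟨p, E, hpp, inferInstance, le_rfl, hE, IsPGroup.of_card (n := i) ?_, ?_⟩
    · rw [← hi, ← hrel, hKb, relIndex_bot_left]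
    · rw [relIndex_self]
      exact fun h => hpp.one_lt.ne' (Nat.dvd_one.1 h)
  have hlt : Nat.card K' < m := by
    rw [← hm]
    refine lt_of_le_of_ne (card_le_of_le hKE) fun h => ?_
    have hd : p ∣ Nat.card K' := h ▸ Nat.minFac_dvd _
    rw [hK', card_map_of_injective E.subtype_injective] at hd
    exact hpp.coprime_iff_not_dvd.1 hKcop.symm hd
  obtain ⟨q, Q, hq, hQn, hQK, hQb, hQp, hQi⟩ := ih _ hlt K' rfl hKb (fun q hq X hX hXp hXi hXc => by
    refine hyp q hq X (hX.trans hKE) hXp ?_ hXc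
    rw [← relIndex_mul_relIndex X K' E hX hKE]
    refine fun hd => (hq.dvd_mul.1 hd).elim hXi fun hd2 => ?_
    rw [hrel, hi] at hd2
    obtain rfl := (Nat.prime_dvd_prime_iff_eq hq hpp).1 (hq.dvd_of_dvd_pow hd2)
    refine hXc ?_
    have h0 : X = ⊥ := by
      obtain ⟨j, hj⟩ := IsPGroup.iff_card.1 hXp
      refine card_eq_one.1 ?_
      by_contra hne
      have hj0 : j ≠ 0 := fun h => hne (by rw [hj, h, pow_zero])
      have hd3 : p ∣ Nat.card K' := (hj ▸ dvd_pow_self p hj0).trans (card_dvd_of_le hX)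
      rw [hK', card_map_of_injective E.subtype_injective] at hd3
      exact hpp.coprime_iff_not_dvd.1 hKcop.symm hd3
    subst h0
    infer_instance)
  refine ⟨q, Q, hq, hQn, hQK.trans hKE, hQb, hQp, ?_⟩
  rw [← relIndex_mul_relIndex Q K' E hQK hKE]
  refine fun hd => (hq.dvd_mul.1 hd).elim hQi fun hd2 => ?_
  rw [hrel, hi] at hd2
  obtain rfl := (Nat.prime_dvd_prime_iff_eq hq hpp).1 (hq.dvd_of_dvd_pow hd2)
  obtain ⟨j, hj⟩ := IsPGroup.iff_card.1 hQp
  have hj0 : j ≠ 0 := fun h => hQb (card_eq_one.1 (by rw [hj, h, pow_zero]))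
  have hd3 : p ∣ Nat.card K' := (hj ▸ dvd_pow_self p hj0).trans (card_dvd_of_le hQK)
  rw [hK', card_map_of_injective E.subtype_injective] at hd3
  exact hpp.coprime_iff_not_dvd.1 hKcop.symm hd3

theorem sylowHyp_quotient {G : Type u} [Group G] [Finite G] {E Q : Subgroup G} [Q.Normal]
    (hQE : Q ≤ E) {p : ℕ} [Fact p.Prime] (hQp : IsPGroup p Q) (hQi : ¬ p ∣ Q.relIndex E)
    (hyp : SylowHyp E) : SylowHyp (E.map (QuotientGroup.mk' Q)) := by
  classical
  intro q hq P' hP'E hP'q hP'i hP'c
  have := Fact.mk hq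
  set f := QuotientGroup.mk' Q with hf
  have hs := QuotientGroup.mk'_surjective Q
  have hEf : (E.map f).comap f = E := comap_map_eq_self (by rw [hf, QuotientGroup.ker_mk']; exact hQE)
  set X := P'.comap f with hX
  have hXE : X ≤ E := hEf ▸ comap_mono hP'E
  have hQX : Q ≤ X := fun x hx => by
    rw [hX, mem_comap, hf, QuotientGroup.mk'_apply, (QuotientGroup.eq_one_iff x).2 hx]
    exact one_mem _
  obtain ⟨j, hj⟩ := IsPGroup.iff_card.1 hP'q
  have hrelE : X.relIndex E = P'.relIndex (E.map f) := by rw [hX, relIndex_comap]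
  have hQX' : Q.relIndex X = Nat.card P' := by
    have := relIndex_comap (⊥ : Subgroup (G ⧸ Q)) f X
    rw [MonoidHom.comap_bot, hf, QuotientGroup.ker_mk', hX, map_comap_eq_self_of_surjective hs,
      relIndex_bot_left] at this
    exact this
  have hqp : q ≠ p := by
    intro h
    have hj0 : j ≠ 0 := fun h0 => hP'c (by
      rw [h0, pow_zero, card_eq_one] at hj
      subst hj
      infer_instance)
    apply hQi
    rw [← relIndex_mul_relIndex Q X E hQX hXE, hQX', hj, ← h]
    exact Dvd.dvd.mul_right (dvd_pow_self q hj0) _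
  obtain ⟨e, he⟩ := IsPGroup.iff_card.1 hQp
  let S : Sylow q X := default
  set P := (S : Subgroup X).map X.subtype with hP
  have hPX : P ≤ X := map_subtype_le _
  have hPq : IsPGroup q P := S.2.map _
  have hPQ : P ⊓ Q = ⊥ := by
    apply inf_eq_bot_of_coprime
    obtain ⟨b, hb⟩ := IsPGroup.iff_card.1 hPq
    rw [hb, he]
    exact Nat.Coprime.pow _ _ ((Nat.coprime_primes hq Fact.out).2 hqp)
  have hPi : ¬ q ∣ P.relIndex X := by
    rw [relIndex, hP, subgroupOf, comap_map_eq_self_of_injective X.subtype_injective]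
    exact S.not_dvd_index
  have hinj : Set.InjOn f P := fun a ha b hb hab => by
    have : a⁻¹ * b ∈ P ⊓ Q := mem_inf.2 ⟨mul_mem (inv_mem ha) hb, QuotientGroup.eq.1 hab⟩
    rw [hPQ, mem_bot] at this
    exact inv_mul_eq_one.1 this
  have hcardP : ∀ F : Subgroup G, F ≤ P → Nat.card (F.map f) = Nat.card F := fun F hF => by
    refine Nat.card_congr (Equiv.ofBijective
      (fun x : F => (⟨f x, mem_map_of_mem f x.2⟩ : F.map f)) ⟨fun a b hab => ?_, ?_⟩).symm
    · exact Subtype.ext (hinj (hF a.2) (hF b.2) (congrArg Subtype.val hab))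
    · rintro ⟨_, a, ha, rfl⟩; exact ⟨⟨a, ha⟩, rfl⟩
  have hPmap : P.map f = P' := by
    refine eq_of_le_of_card_ge ((map_mono hPX).trans (map_comap_le f P')) ?_
    rw [hcardP P le_rfl]
    refine Nat.le_of_dvd Nat.card_pos (Nat.Coprime.dvd_of_dvd_mul_right (n := P.relIndex X) ?_ ?_)
    · rw [hj]
      exact (hq.coprime_iff_not_dvd.2 hPi).pow_left j
    · rw [← relIndex_bot_left P, relIndex_mul_relIndex _ _ _ bot_le hPX, relIndex_bot_left, ← hQX']
      exact relIndex_dvd_card _ _
  have hPE : P ≤ E := hPX.trans hXE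
  have hPiE : ¬ q ∣ P.relIndex E := by
    rw [← relIndex_mul_relIndex P X E hPX hXE, hrelE]
    exact fun h => (hq.dvd_mul.1 h).elim hPi hP'i
  have hPc : ¬ IsCyclic P := fun hc => hP'c (by
    rw [← hPmap]
    exact isCyclic_of_surjective (f.subgroupMap P) (f.subgroupMap_surjective P))
  obtain ⟨k, hk, hkP, hH⟩ := hyp q hq P hPE hPq hPiE hPc
  refine ⟨k, hk, by rwa [← hPmap, hcardP P le_rfl], fun F' hF'P hF'card g' => ?_⟩
  obtain ⟨g, rfl⟩ := hs g'
  set F := P ⊓ F'.comap f with hF
  have hFP : F ≤ P := inf_le_left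
  have hFmap : F.map f = F' := by
    refine le_antisymm ((map_mono inf_le_right).trans (map_comap_le f F')) fun x hx => ?_
    obtain ⟨a, ha, rfl⟩ := hPmap.ge (hF'P hx)
    exact ⟨a, mem_inf.2 ⟨ha, hx⟩, rfl⟩
  have hFcard : Nat.card F = Nat.card F' := by rw [← hFmap, hcardP F hFP]
  have hHF := hH F hFP (hFcard ▸ hF'card)
  intro y hy
  obtain ⟨⟨_, ha', rfl⟩, hyN⟩ := mem_inf.1 hy
  obtain ⟨a, ha, rfl⟩ := hFmap.ge ha'
  set x := g * a * g⁻¹ with hx
  have hfx : (MulAut.conj (f g)).toMonoidHom (f a) = f x := by simp [hx]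
  rw [hfx] at hyN ⊢
  set W := F'.comap f with hW
  have hQW : Q ≤ W := fun b hb => by
    rw [hW, mem_comap, hf, QuotientGroup.mk'_apply, (QuotientGroup.eq_one_iff b).2 hb]
    exact one_mem _
  have hQW' : Q.relIndex W = Nat.card F' := by
    have := relIndex_comap (⊥ : Subgroup (G ⧸ Q)) f W
    rw [MonoidHom.comap_bot, hf, QuotientGroup.ker_mk', hW, map_comap_eq_self_of_surjective hs,
      relIndex_bot_left] at this
    exact this
  have hWcard : Nat.card W = Nat.card F * Nat.card Q := by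
    rw [hFcard, ← hQW', ← relIndex_bot_left W, ← relIndex_mul_relIndex ⊥ Q W bot_le hQW,
      relIndex_bot_left, mul_comm]
  have hcopQ : ∀ d : ℕ, d ∣ Nat.card Q → ¬ q ∣ d := fun d hd hqd => hqp
    ((Nat.prime_dvd_prime_iff_eq hq Fact.out).1 (hq.dvd_of_dvd_pow (he ▸ hqd.trans hd)))
  have hFi : ¬ q ∣ F.relIndex W := by
    refine hcopQ _ ?_
    have h1 := relIndex_mul_relIndex ⊥ F W bot_le inf_le_right
    rw [relIndex_bot_left, relIndex_bot_left, hWcard] at h1
    exact (Nat.eq_of_mul_eq_mul_left Nat.card_pos h1).dvd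
  have hFx : F.map (MulAut.conj x).toMonoidHom ≤ W := by
    rintro _ ⟨b, hb, rfl⟩
    rw [hW, mem_comap]
    simpa using (mem_normalizer_iff.1 hyN (f b)).1 (hFmap.le ⟨b, hb, rfl⟩)
  obtain ⟨m, hm, hmle⟩ := Fusion.exists_conjSub_le_of_not_dvd_relIndex (inf_le_right : F ≤ W)
    (hPq.to_le hFP) hFi hFx ((hPq.to_le hFP).map _)
  have hu : m⁻¹ * x ∈ normalizer (F : Set G) := by
    refine mem_normalizer_iff_map_conj_eq.2 (eq_of_le_of_card_ge ?_
      (card_map_of_injective (MulAut.conj (m⁻¹ * x)).injective).ge)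
    rintro _ ⟨b, hb, rfl⟩
    exact hmle (Fusion.mem_conjSub.2 ⟨b, hb, by simp [mul_assoc]⟩)
  obtain ⟨c, hc, hcm⟩ := hFmap.ge (show f m ∈ F' from hm)
  set v := c * (m⁻¹ * x) with hv
  have hvN : v ∈ normalizer (F : Set G) := mul_mem (le_normalizer hc) hu
  have hfv : f v = f x := by rw [hv, map_mul, map_mul, map_inv, hcm, mul_inv_cancel_left]
  -- the `q`-part of `v`
  have hxq : ∃ i, orderOf x = q ^ i := by
    obtain ⟨i, hi⟩ := IsPGroup.iff_orderOf.1 hPq ⟨a, hFP ha⟩
    rw [orderOf_mk] at hi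
    exact ⟨i, by rw [hx, ← hi]; exact MulEquiv.orderOf_eq (MulAut.conj g) a⟩
  obtain ⟨i, hi⟩ := hxq
  have hfxo : orderOf (f x) = q ^ i := by
    rw [← hi]
    refine Nat.dvd_antisymm (orderOf_map_dvd f x) ?_
    have h1 : x ^ orderOf (f x) ∈ Q := (QuotientGroup.eq_one_iff _).1 (by
      change f (x ^ orderOf (f x)) = 1
      rw [map_pow, pow_orderOf_eq_one])
    refine orderOf_dvd_of_pow_eq_one (orderOf_eq_one_iff.1 ?_)
    refine Nat.eq_one_of_dvd_coprimes ?_ (orderOf_pow_dvd (x := x) _)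
      (orderOf_mk _ h1 ▸ orderOf_dvd_natCard (⟨_, h1⟩ : Q))
    rw [hi, he]
    exact Nat.Coprime.pow _ _ ((Nat.coprime_primes hq Fact.out).2 hqp)
  set t := orderOf v / q ^ (orderOf v).factorization q with ht
  set z := v ^ t with hz
  have hzo : orderOf z = q ^ (orderOf v).factorization q := by
    rw [hz, ht, orderOf_pow_of_dvd ?_ (Nat.div_dvd_of_dvd (Nat.ordProj_dvd _ _)),
      Nat.div_div_self (Nat.ordProj_dvd _ _) (orderOf_pos v).ne']
    exact Nat.div_ne_zero_iff_of_dvd (Nat.ordProj_dvd _ _) |>.2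
      ⟨(orderOf_pos v).ne', pow_ne_zero _ hq.ne_zero⟩
  have hfzo : orderOf (f z) = q ^ i := by
    rw [hz, map_pow, hfv, Nat.Coprime.orderOf_pow, hfxo]
    rw [hfxo]
    exact ((hq.coprime_iff_not_dvd.2 (Nat.not_dvd_ordCompl hq (orderOf_pos v).ne')).pow_left i)
  set Y := Q ⊔ zpowers x with hY
  have hxQ : zpowers x ≤ normalizer (Q : Set G) := by rw [normalizer_eq_top]; exact le_top
  have hYcard : Nat.card Y = Nat.card Q * q ^ i := by
    rw [hY, Coprime.card_sup_eq_mul hxQ ?_, Nat.card_zpowers, hi]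
    apply inf_eq_bot_of_coprime
    rw [Nat.card_zpowers, hi, he]
    exact Nat.Coprime.pow _ _ ((Nat.coprime_primes hq Fact.out).2 hqp).symm
  have hzY : z ∈ Y := by
    rw [hY, Coprime.mem_sup_of_le_normalizer hxQ]
    refine ⟨z * (x ^ t)⁻¹, (QuotientGroup.eq_one_iff _).1 ?_, x ^ t, pow_mem (mem_zpowers x) _,
      inv_mul_cancel_right _ _⟩
    change f (z * (x ^ t)⁻¹) = 1
    rw [map_mul, map_inv, hz, map_pow, map_pow, hfv, mul_inv_cancel]
  have hzi : ¬ q ∣ (zpowers z).relIndex Y := by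
    refine hcopQ _ ?_
    have h1 := relIndex_mul_relIndex ⊥ (zpowers z) Y bot_le (zpowers_le.2 hzY)
    rw [relIndex_bot_left, relIndex_bot_left, hYcard, Nat.card_zpowers] at h1
    obtain ⟨r, hr⟩ : q ^ i ∣ orderOf z := hfzo ▸ orderOf_map_dvd f z
    rw [hr, mul_assoc, mul_comm (Nat.card Q)] at h1
    exact ⟨r, by rw [← Nat.eq_of_mul_eq_mul_left (pow_pos hq.pos i) h1, mul_comm]⟩
  obtain ⟨l, hl, hlle⟩ := Fusion.exists_conjSub_le_of_not_dvd_relIndex (zpowers_le.2 hzY)
    (IsPGroup.of_card (n := (orderOf v).factorization q) (by rw [Nat.card_zpowers, hzo])) hzi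
    (T := zpowers x) (le_sup_right : zpowers x ≤ Y)
    (IsPGroup.of_card (n := i) (by rw [Nat.card_zpowers, hi]))
  have hlx : l⁻¹ * x * l ∈ normalizer (F : Set G) :=
    (zpowers_le.2 (pow_mem hvN t)) (hlle (Fusion.mem_conjSub.2 (by
      simpa [mul_assoc] using mem_zpowers x)))
  have hmemF : l⁻¹ * x * l ∈ F := hHF (l⁻¹ * g) (mem_inf.2 ⟨⟨a, ha, by simp [hx, mul_assoc]⟩, hlx⟩)
  have hfl : f (l⁻¹ * x * l) = f x := by
    obtain ⟨b, hb, w, hw, rfl⟩ := (Coprime.mem_sup_of_le_normalizer hxQ).1 hl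
    obtain ⟨j', rfl⟩ := mem_zpowers_iff.1 hw
    have hb1 : f b = 1 := (QuotientGroup.eq_one_iff b).2 hb
    rw [map_mul, map_mul, map_inv, map_mul, hb1, one_mul, map_zpow]
    group
  exact hfl ▸ hFmap.le ⟨_, hmemF, rfl⟩

theorem isSupersolvable_of_sylowHyp (m : ℕ) : ∀ (G : Type u) [Group G] [Finite G] (E : Subgroup G)
    [E.Normal], Nat.card G = m → Cfsg.IsSupersolvable (G ⧸ E) → SylowHyp E →
    Cfsg.IsSupersolvable G := by
  induction m using Nat.strong_induction_on with
  | _ m ih =>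
  intro G _ _ E _ hm hss hyp
  by_cases hE : E = ⊥
  · exact Core.isSupersolvable_congr ((QuotientGroup.quotientMulEquivOfEq hE).trans
      QuotientGroup.quotientBot) hss
  obtain ⟨q, Q, hq, hQn, hQE, hQb, hQp, hQi⟩ := exists_normal_sylow _ E rfl hE hyp
  have := Fact.mk hq
  have hEn : (E.map (QuotientGroup.mk' Q)).Normal :=
    (inferInstance : E.Normal).map _ (QuotientGroup.mk'_surjective Q)
  have hQss : Cfsg.IsSupersolvable (G ⧸ Q) :=
    ih _ (hm ▸ Core.card_quotient_lt hQb) (G ⧸ Q) (E.map (QuotientGroup.mk' Q)) rfl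
      (Core.isSupersolvable_congr (QuotientGroup.quotientQuotientEquivQuotient Q E hQE).symm hss)
      (sylowHyp_quotient hQE hQp hQi hyp)
  by_cases hc : IsCyclic Q
  · exact Core.isSupersolvable_of_cyclic_normal Q hQss
  obtain ⟨k, hk, hkQ, hH⟩ := hyp q hq Q hQE hQp hQi hc
  exact isSupersolvable_of_pGroup (Nat.card Q) G Q rfl hQp hQss
    fun n hn hn' => centralizes_normal hQp hk hkQ hH hn hn'

end Cfsg.Agent.HSub
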